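import Cfsg.Agent.Lib.Qd
import Cfsg.Prelude.Def_LocalEven
import Mathlib

/-!
A group in which each nontrivial `p`-subgroup has a `p`-closed normaliser does not involve `Qd(p)`, nor do its
quotients.
-/

set_option autoImplicit false

namespace CfsgLib.QdPClosed

open CfsgLib

variable {p : ℕ} [hp : Fact p.Prime]

theorem up_add_mem_false (hp2 : p ≠ 2) (Q : Sylow p (Cfsg.qd p)) (hQ : (Q : Subgroup (Cfsg.qd p)).Normal) : False := by
  haveI := hQ
  have hup : ∀ c, Qd.up c ∈ (Q : Subgroup (Cfsg.qd p)) := by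
    intro c
    have h1 : Qd.up (1 : ZMod p) ∈ (Q : Subgroup (Cfsg.qd p)) := by
      have hz : IsPGroup p (Subgroup.zpowers (Qd.up (1 : ZMod p))) := by
        rintro ⟨_, k, rfl⟩
        refine ⟨1, Subtype.ext ?_⟩
        show ((Qd.up (1 : ZMod p)) ^ k) ^ p ^ 1 = 1
        rw [pow_one, ← zpow_natCast, zpow_comm, zpow_natCast, Qd.up_pow_p, one_zpow]
      obtain ⟨P, hP⟩ := hz.exists_le_sylow
      obtain ⟨g, rfl⟩ := MulAction.exists_smul_eq (Cfsg.qd p) Q P
      rw [Sylow.smul_eq_of_normal] at hP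
      exact hP (Subgroup.mem_zpowers _)
    rw [← Qd.up_one_pow_val c]
    exact Subgroup.pow_mem _ h1 _
  have hlow : Qd.low (-1 : ZMod p) ∈ (Q : Subgroup (Cfsg.qd p)) := by
    have := hQ.conj_mem _ (hup 1) Qd.w
    rwa [Qd.conj_up, mul_inv_cancel_right] at this
  have hw : (Qd.w : Cfsg.qd p) ∈ (Q : Subgroup (Cfsg.qd p)) := by
    have e : Qd.up (1 : ZMod p) * Qd.low (-1) * Qd.up 1 = Qd.w := by
      unfold Qd.up Qd.low Qd.w
      rw [Qd.el_mul, Qd.el_mul]
      exact Qd.el_congr (by ring) (by ring) (by ring) (by ring) (by ring) (by ring)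
    rw [← e]
    exact mul_mem (mul_mem (hup 1) hlow) (hup 1)
  have h4 : (Qd.w : Cfsg.qd p) ^ 4 = 1 := by
    calc (Qd.w : Cfsg.qd p) ^ 4 = (Qd.w * Qd.w) * (Qd.w * Qd.w) 
        := by simp only [pow_succ, pow_zero, one_mul, mul_assoc]
      _ = 1 := by rw [Qd.w_mul_w, Qd.z_mul_z]
  obtain ⟨k, hk⟩ := IsPGroup.iff_orderOf.mp Q.isPGroup' ⟨_, hw⟩
  have hd := orderOf_dvd_of_pow_eq_one h4
  rw [Subgroup.orderOf_mk] at hk
  rw [hk] at hd
  have hk0 : k = 0 := by
    by_contra h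
    have h' : p ∣ 2 ^ 2 := dvd_trans (dvd_pow_self p h) hd
    exact hp2 ((Nat.prime_dvd_prime_iff_eq hp.out Nat.prime_two).mp (hp.out.dvd_of_dvd_pow h'))
  rw [hk0, pow_zero, orderOf_eq_one_iff] at hk
  have hz : (Qd.z : Cfsg.qd p) = 1 := by rw [← Qd.w_mul_w, hk, one_mul]
  have h00 : (-1 : ZMod p) = 1 := by
    have h' := congrArg (fun g : Cfsg.qd p =>
      ((g : Matrix.SpecialLinearGroup (Fin 3) (ZMod p)) : Matrix (Fin 3) (Fin 3) (ZMod p)) 0 0) hz
    simpa [Qd.z, Qd.el, Qd.mat] using h'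
  have h2 : ((2 : ℕ) : ZMod p) = 0 := by push_cast; linear_combination -h00
  rw [ZMod.natCast_eq_zero_iff] at h2
  exact hp2 ((Nat.prime_dvd_prime_iff_eq hp.out Nat.prime_two).mp h2)

/-- No subgroup maps onto `Qd(p)` when normalisers of nontrivial `p`-subgroups are `p`-closed. -/
theorem no_surjection (hp2 : p ≠ 2) {G : Type*} [Group G] [Finite G]
    (h : ∀ W : Subgroup G, IsPGroup p W → W ≠ ⊥ → ∃ U : Subgroup G, IsPGroup p U ∧
      Subgroup.normalizer (W : Set G) ≤ Subgroup.normalizer (U : Set G) ∧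
      ∀ g ∈ Subgroup.normalizer (W : Set G), (∃ k, g ^ p ^ k = 1) → g ∈ U)
    (K : Subgroup G) (f : K →* Cfsg.qd p) (hf : Function.Surjective f) : False := by
  classical
  set M := (Qd.W p).comap f with hM
  obtain ⟨S₀⟩ : Nonempty (Sylow p M) := inferInstance
  let fM : M →* Qd.W p := (f.comp M.subtype).codRestrict _ fun x => x.2
  have hfM : Function.Surjective fM := fun w => by
    obtain ⟨x, hx⟩ := hf w.1
    exact ⟨⟨x, by show f x ∈ Qd.W p; rw [hx]; exact w.2⟩, Subtype.ext hx⟩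
  have hSW : (S₀ : Subgroup M).map fM = ⊤ := by
    have := (S₀.mapSurjective hfM).is_maximal'
      (Qd.isPGroup_W.to_subgroup ⊤) le_top
    rw [Sylow.coe_mapSurjective] at this
    exact this.symm
  set W0 : Subgroup K := (S₀ : Subgroup M).map M.subtype with hW0
  set W : Subgroup G := W0.map K.subtype with hWdef
  have hWp : IsPGroup p W := (S₀.isPGroup'.map _).map _
  have hW0img : Qd.W p ≤ W0.map f := by
    intro w hw
    have : (⟨w, hw⟩ : Qd.W p) ∈ (S₀ : Subgroup M).map fM := by rw [hSW]; trivial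
    obtain ⟨x, hx, hxw⟩ := this
    exact ⟨(x : K), ⟨x, hx, rfl⟩, congrArg Subtype.val hxw⟩
  have hWne : W ≠ ⊥ := by
    intro hb
    have hb' : W0 = ⊥ := (Subgroup.map_eq_bot_iff_of_injective _ K.subtype_injective).mp hb
    rw [hb', Subgroup.map_bot, le_bot_iff] at hW0img
    have h1 : Nat.card (Qd.W p) = 1 := by rw [hW0img]; exact Subgroup.card_bot
    rw [Qd.card_W] at h1
    have := Nat.one_lt_pow two_ne_zero hp.out.one_lt
    omega
  obtain ⟨U, hU, hNU, hmem⟩ := h W hWp hWne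
  set N : Subgroup K := Subgroup.normalizer (W0 : Set K) with hN
  have hNW : ∀ n : K, n ∈ N → (n : G) ∈ Subgroup.normalizer (W : Set G) := by
    intro n hn
    rw [Subgroup.mem_normalizer_iff] at hn ⊢
    intro y
    constructor
    · rintro ⟨a, ha, rfl⟩
      exact ⟨n * a * n⁻¹, (hn a).mp ha, rfl⟩
    · rintro ⟨b, hb, he⟩
      refine ⟨n⁻¹ * b * n, (hn _).mpr (by simpa [mul_assoc] using hb), ?_⟩
      rw [map_mul, map_mul, map_inv, he]
      simp [mul_assoc]
  -- Frattini: `N` covers `Qd(p)`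
  have hsurj : Function.Surjective (f.comp N.subtype) := by
    intro e
    obtain ⟨x, rfl⟩ := hf e
    haveI : M.Normal := (inferInstance : (Qd.W p).Normal).comap f
    have ht := Sylow.normalizer_sup_eq_top S₀
    have hx : x ∈ Subgroup.normalizer (W0 : Set K) ⊔ M := by
      rw [hW0, ht]; trivial
    rw [Subgroup.mem_sup_of_normal_right] at hx
    obtain ⟨n, hn, m, hm, rfl⟩ := hx
    obtain ⟨y, hy, hyw⟩ := hW0img (show f m ∈ Qd.W p from hm)
    exact ⟨⟨n * y, mul_mem hn (Subgroup.le_normalizer hy)⟩, by simp [hyw]⟩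
  -- the normal `p`-subgroup of `N`
  let P : Subgroup N := U.comap (K.subtype.comp N.subtype)
  have hPp : IsPGroup p P := hU.comap_of_injective _ (K.subtype_injective.comp N.subtype_injective)
  have hPn : P.Normal := ⟨fun u hu g =>
    (Subgroup.mem_normalizer_iff.mp (hNU (hNW _ g.2)) _).mp hu⟩
  obtain ⟨T, hT⟩ := hPp.exists_le_sylow
  have hTP : (T : Subgroup N) ≤ P := fun t ht => by
    obtain ⟨k, hk⟩ := T.isPGroup' ⟨t, ht⟩
    exact hmem _ (hNW _ t.2) ⟨k, by simpa using congrArg (fun a => ((a.1.1 : K) : G)) hk⟩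
  haveI : (T : Subgroup N).Normal := by
    rw [le_antisymm hTP hT]; exact hPn
  refine up_add_mem_false hp2 (T.mapSurjective hsurj) ?_
  rw [Sylow.coe_mapSurjective]
  exact Subgroup.Normal.map inferInstance _ hsurj

/-- The quotient version of the criterion. -/
theorem not_involves_quotient (hp2 : p ≠ 2) {G : Type*} [Group G] [Finite G] (Z : Subgroup G) [Z.Normal]
    (h : ∀ W : Subgroup G, IsPGroup p W → W ≠ ⊥ → ∃ U : Subgroup G, IsPGroup p U ∧
      Subgroup.normalizer (W : Set G) ≤ Subgroup.normalizer (U : Set G) ∧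
      ∀ g ∈ Subgroup.normalizer (W : Set G), (∃ k, g ^ p ^ k = 1) → g ∈ U) :
    ¬ Cfsg.Involves (Cfsg.qd p) (G ⧸ Z) := by
  rintro ⟨K, R, hR, ⟨e⟩⟩
  let r : ↥(K.comap (QuotientGroup.mk' Z)) →* K :=
    ((QuotientGroup.mk' Z).comp (K.comap (QuotientGroup.mk' Z)).subtype).codRestrict K fun x => x.2
  have hr : Function.Surjective r := by
    rintro ⟨k, hk⟩
    obtain ⟨x, rfl⟩ := QuotientGroup.mk'_surjective Z k
    exact ⟨⟨x, hk⟩, rfl⟩
  refine no_surjection hp2 h _ ((e.toMonoidHom.comp (QuotientGroup.mk' _)).comp r) ?_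
  exact (e.surjective.comp (QuotientGroup.mk'_surjective _)).comp hr

end CfsgLib.QdPClosed
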