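import Cfsg.Agent.Lib.IsotropicHerm
import Cfsg.Agent.Lib.QdPClosed.Criterion

/-!
In three-dimensional unitary groups a nontrivial `p`-subgroup, `p` the characteristic, fixes a unique isotropic line,
whose stabiliser is `p`-closed.
-/

set_option autoImplicit false

namespace CfsgLib.QdPClosed

open scoped Matrix

variable {p : ℕ} [hp : Fact p.Prime] {F : Type*} [Field F] [Fintype F] [CharP F p]
  {G : Type*} [Group G] [Finite G]

local notation "V" => Fin 3 → F

omit [Fintype F] [Finite G] in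
theorem eig_one (ρ : G →* Module.End F V) {g : G} {k : ℕ} (hg : g ^ p ^ k = 1) {v : V} (hv : v ≠ 0) {a : F}
    (h : ρ g v = a • v) : a = 1 := by
  have hpow : ∀ j : ℕ, ρ (g ^ j) v = a ^ j • v := by
    intro j
    induction j with
    | zero => simp
    | succ j ih => rw [pow_succ, map_mul, Module.End.mul_apply, h, map_smul, ih, smul_smul, pow_succ']
  have h1 := hpow (p ^ k)
  rw [hg, map_one, Module.End.one_apply] at h1
  have h2 : a ^ p ^ k = 1 := by
    by_contra hne
    have h3 : (1 - a ^ p ^ k) • v = 0 := by rw [sub_smul, one_smul, ← h1, sub_self]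
    rcases smul_eq_zero.mp h3 with h4 | h4
    · exact hne (sub_eq_zero.mp h4).symm
    · exact hv h4
  have h5 : (a - 1) ^ p ^ k = 0 := by rw [sub_pow_char_pow, h2, one_pow, sub_self]
  exact sub_eq_zero.mp (eq_zero_of_pow_eq_zero h5)

theorem exists_fixed_vector (ρ : G →* Module.End F V) (W : Subgroup G) (hW : IsPGroup p W)
    (X : Submodule F V) (hX : X ≠ ⊥) (hinv : ∀ w ∈ W, ∀ x ∈ X, ρ w x ∈ X) :
    ∃ v ∈ X, v ≠ 0 ∧ ∀ w ∈ W, ρ w v = v := by
  letI : MulAction W X :=
    { smul := fun w x => ⟨ρ w.1 x.1, hinv _ w.2 _ x.2⟩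
      one_smul := fun x => Subtype.ext (by show ρ (1 : G) x.1 = x.1; rw [map_one]; rfl)
      mul_smul := fun a b x => Subtype.ext (by
        show ρ (a.1 * b.1) x.1 = ρ a.1 (ρ b.1 x.1); rw [map_mul]; rfl) }
  obtain ⟨v, hv, hv0⟩ := Submodule.exists_mem_ne_zero_of_ne_bot hX
  have hord : addOrderOf (⟨v, hv⟩ : X) = p := by
    refine addOrderOf_eq_prime ?_ fun h => hv0 (congrArg Subtype.val h)
    rw [← Nat.cast_smul_eq_nsmul F, CharP.cast_eq_zero F p, zero_smul]
  have hdvd : p ∣ Nat.card X := hord ▸ addOrderOf_dvd_natCard (⟨v, hv⟩ : X)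
  have h0 : (0 : X) ∈ MulAction.fixedPoints W X := fun w => Subtype.ext (map_zero (ρ w.1))
  obtain ⟨b, hb, hne⟩ := hW.exists_fixed_point_of_prime_dvd_card_of_fixed_point X hdvd h0
  exact ⟨b.1, b.2, fun h => hne (Subtype.ext h.symm), fun w hw => congrArg Subtype.val (hb ⟨w, hw⟩)⟩

/-- The criterion for a group acting faithfully on a three-dimensional unitary space. -/
theorem pclosed_of_form (ρ : G →* Module.End F V) (hρ : Function.Injective ρ) {σ : F →+* F}
    (hσ : ∀ a, σ (σ a) = a) (B : (Fin 3 → F) →ₛₗ[σ] (Fin 3 → F) →ₗ[F] F)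
    (hnd : ∀ x, (∀ y, B x y = 0) → x = 0)
    (hB : ∀ g x y, B (ρ g x) (ρ g y) = B x y) (W : Subgroup G) (hW : IsPGroup p W) (hne : W ≠ ⊥) :
    ∃ U : Subgroup G, IsPGroup p U ∧
      Subgroup.normalizer (W : Set G) ≤ Subgroup.normalizer (U : Set G) ∧
      ∀ g ∈ Subgroup.normalizer (W : Set G), (∃ k, g ^ p ^ k = 1) → g ∈ U := by
  classical
  have hcomp : ∀ (a b : G) (x : V), ρ a (ρ b x) = ρ (a * b) x := fun a b x => by rw [map_mul]; rfl
  have hadj : ∀ (g : G) (x y : V), B x (ρ g y) = B (ρ g⁻¹ x) y := fun g x y => by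
    rw [← hB g (ρ g⁻¹ x) y, hcomp, mul_inv_cancel, map_one]; rfl
  -- the fixed space
  let X : Submodule F V := ⨅ w : W, LinearMap.ker (ρ w.1 - 1)
  have memX : ∀ x, x ∈ X ↔ ∀ w ∈ W, ρ w x = x := fun x => by
    simp [X, Submodule.mem_iInf, LinearMap.mem_ker, sub_eq_zero]
  have hXN : ∀ n ∈ Subgroup.normalizer (W : Set G), ∀ x ∈ X, ρ n x ∈ X := by
    intro n hn x hx
    rw [memX] at hx ⊢
    intro w hw
    have hw' : n⁻¹ * w * n ∈ W := (Subgroup.mem_normalizer_iff.mp hn _).mpr (by simpa [mul_assoc] using hw)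
    rw [hcomp, show w * n = n * (n⁻¹ * w * n) by group, ← hcomp, hx _ hw']
  let Y : Submodule F V := ⨅ x : X, LinearMap.ker (B x.1)
  have memY : ∀ y, y ∈ Y ↔ ∀ x ∈ X, B x y = 0 := fun y => by
    simp [Y, Submodule.mem_iInf, LinearMap.mem_ker]
  have hYN : ∀ n ∈ Subgroup.normalizer (W : Set G), ∀ y ∈ Y, ρ n y ∈ Y := by
    intro n hn y hy
    rw [memY] at hy ⊢
    intro x hx
    rw [hadj]
    exact hy _ (hXN _ (Subgroup.inv_mem _ hn) x hx)
  have hXtop : X ≠ ⊤ := by
    intro h
    refine hne (W.eq_bot_iff_forall.mpr fun w hw => hρ ?_)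
    rw [map_one]
    exact LinearMap.ext fun x => (memX x).mp (h ▸ trivial) w hw
  have hY : Y ≠ ⊥ := by
    intro h
    let b := Module.finBasis F X
    let T : V →ₗ[F] (Fin (Module.finrank F X) → F) := LinearMap.pi fun i => B (b i).1
    have hT : Function.Injective T := by
      rw [← LinearMap.ker_eq_bot, eq_bot_iff, ← h]
      intro y hy
      rw [memY]
      intro x hx
      have hx' : x = ∑ i, b.repr ⟨x, hx⟩ i • (b i).1 := by
        have := congrArg Subtype.val (b.sum_repr ⟨x, hx⟩)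
        push_cast at this
        exact this.symm
      rw [hx', map_sum, LinearMap.sum_apply]
      refine Finset.sum_eq_zero fun i _ => ?_
      rw [map_smulₛₗ, LinearMap.smul_apply]
      have : B (b i).1 y = 0 := congrFun (LinearMap.mem_ker.mp hy) i
      rw [this, smul_zero]
    have := LinearMap.finrank_le_finrank_of_injective hT
    rw [Module.finrank_fin_fun, Module.finrank_fin_fun] at this
    refine hXtop (Submodule.eq_top_of_finrank_eq (le_antisymm (Submodule.finrank_le X) ?_))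
    rwa [Module.finrank_fin_fun]
  obtain ⟨v, hvY, hv0, hvX'⟩ := exists_fixed_vector ρ W hW Y hY
    fun w hw y hy => hYN w (Subgroup.le_normalizer hw) y hy
  have hvX : v ∈ X := (memX v).mpr hvX'
  have hvv : B v v = 0 := (memY v).mp hvY v hvX
  -- the plane orthogonal to v
  obtain ⟨u, hu⟩ : ∃ u, B v u = 1 := by
    by_contra h
    refine hv0 (hnd v fun y => ?_)
    by_contra hy
    exact h ⟨(B v y)⁻¹ • y, by rw [map_smul, smul_eq_mul, inv_mul_cancel₀ hy]⟩
  have hP : Module.finrank F (LinearMap.ker (B v)) = 2 := by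
    have hsur : Function.Surjective (B v) := fun c => ⟨c • u, by rw [map_smul, hu, smul_eq_mul, mul_one]⟩
    have h := LinearMap.finrank_range_add_finrank_ker (B v)
    rw [LinearMap.range_eq_top.mpr hsur, finrank_top, Module.finrank_self, Module.finrank_fin_fun] at h
    omega
  have plane : ∀ w, B v w = 0 → w ∉ Submodule.span F {v} → ∀ y, B v y = 0 →
      ∃ a b : F, y = a • v + b • w := by
    intro w hw hwv y hy
    have hli : LinearIndependent F ![v, w] := by
      rw [LinearIndependent.pair_iff' hv0]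
      exact fun a ha => hwv (Submodule.mem_span_singleton.mpr ⟨a, ha⟩)
    have hle : Submodule.span F (Set.range ![v, w]) ≤ LinearMap.ker (B v) := by
      rw [Submodule.span_le]
      rintro _ ⟨i, rfl⟩
      fin_cases i
      · exact hvv
      · exact hw
    have heq := Submodule.eq_of_le_of_finrank_eq hle (by rw [finrank_span_eq_card hli, hP, Fintype.card_fin])
    have hy' : y ∈ Submodule.span F (Set.range ![v, w]) := heq ▸ (LinearMap.mem_ker.mpr hy)
    obtain ⟨c, hc⟩ := (Submodule.mem_span_range_iff_exists_fun F).mp hy'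
    exact ⟨c 0, c 1, by simpa [Fin.sum_univ_two] using hc.symm⟩
  have hR : ∀ x ∈ X, x ∈ Y → x ∈ Submodule.span F {v} := by
    intro x hxX hxY
    by_contra hxv
    have hvx : B v x = 0 := (memY x).mp hxY v hvX
    have hxv0 : B x v = 0 := (memY v).mp hvY x hxX
    have hxx : B x x = 0 := (memY x).mp hxY x hxX
    refine hxv (Submodule.mem_span_singleton.mpr ⟨σ (B x u), ?_⟩)
    refine (sub_eq_zero.mp (hnd _ fun y => ?_)).symm
    obtain ⟨a, b, hab⟩ := plane x hvx hxv (y - B v y • u) (by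
      rw [map_sub, map_smul, hu, smul_eq_mul, mul_one, sub_self])
    have h0 : B x (y - B v y • u) = 0 := by
      rw [hab, map_add, map_smul, map_smul, hxv0, hxx]; simp
    rw [map_sub, map_smul, smul_eq_mul, sub_eq_zero] at h0
    rw [map_sub, LinearMap.sub_apply, map_smulₛₗ, LinearMap.smul_apply, hσ, smul_eq_mul, h0]
    ring
  have hline : ∀ n ∈ Subgroup.normalizer (W : Set G), ∃ a : F, ρ n v = a • v := fun n hn => by
    obtain ⟨a, ha⟩ := Submodule.mem_span_singleton.mp (hR _ (hXN n hn v hvX) (hYN n hn v hvY))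
    exact ⟨a, ha.symm⟩
  have hperp : ∀ n ∈ Subgroup.normalizer (W : Set G), ∀ y, B v y = 0 → B v (ρ n y) = 0 := by
    intro n hn y hy
    obtain ⟨a, ha⟩ := hline _ (Subgroup.inv_mem _ hn)
    rw [hadj, ha, map_smulₛₗ, LinearMap.smul_apply, hy, smul_zero]
  -- the radical
  let U : Subgroup G :=
    { carrier := {g | ρ g v = v ∧ ∀ y, B v y = 0 → ∃ a : F, ρ g y = y + a • v}
      one_mem' := ⟨by simp, fun y _ => ⟨0, by simp⟩⟩
      mul_mem' := by
        rintro a b ⟨ha1, ha2⟩ ⟨hb1, hb2⟩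
        refine ⟨by rw [← hcomp, hb1, ha1], fun y hy => ?_⟩
        obtain ⟨s, hs⟩ := ha2 y hy
        obtain ⟨t, ht⟩ := hb2 y hy
        exact ⟨s + t, by rw [← hcomp, ht, map_add, map_smul, hs, ha1, add_smul, add_assoc]⟩
      inv_mem' := by
        rintro a ⟨ha1, ha2⟩
        have hi : ρ a⁻¹ v = v := by
          conv_lhs => rw [← ha1]
          rw [hcomp, inv_mul_cancel, map_one]; rfl
        refine ⟨hi, fun y hy => ?_⟩
        obtain ⟨s, hs⟩ := ha2 y hy
        refine ⟨-s, ?_⟩
        have h := congrArg (ρ a⁻¹) hs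
        rw [hcomp, inv_mul_cancel, map_one, Module.End.one_apply, map_add, map_smul, hi] at h
        rw [neg_smul, ← sub_eq_add_neg, eq_sub_iff_add_eq, ← h] }
  refine ⟨U, ?_, ?_, ?_⟩
  · rintro ⟨g, hg1, hg2⟩
    refine ⟨2, Subtype.ext (hρ ?_)⟩
    show ρ (g ^ p ^ 2) = ρ 1
    have hcube : (ρ g - 1) ^ 3 = 0 := by
      refine LinearMap.ext fun y => ?_
      have h1 : B v (ρ g y - y) = 0 := by
        rw [map_sub, sub_eq_zero]
        conv_lhs => rw [← hg1, hB]
      obtain ⟨a, ha⟩ := hg2 _ h1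
      simp only [pow_succ, pow_zero, one_mul, Module.End.mul_apply, LinearMap.sub_apply,
        Module.End.one_apply, LinearMap.zero_apply]
      rw [ha, add_sub_cancel_left, map_smul, hg1, sub_self]
    haveI : CharP (Module.End F V) p :=
      charP_of_injective_algebraMap (FaithfulSMul.algebraMap_injective F (Module.End F V)) p
    haveI : ExpChar (Module.End F V) p := ExpChar.prime hp.out
    have hp3 : 3 ≤ p ^ 2 := le_trans (by norm_num) (Nat.pow_le_pow_left hp.out.two_le 2)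
    have h := add_pow_expChar_pow_of_commute p 2 (Commute.one_right (ρ g - 1))
    rw [sub_add_cancel, one_pow, ← Nat.sub_add_cancel hp3, pow_add (ρ g - 1), hcube, mul_zero, zero_add,
      Nat.sub_add_cancel hp3] at h
    rw [map_pow, map_one, h]
  · intro n hn
    have key : ∀ m ∈ Subgroup.normalizer (W : Set G), ∀ g ∈ U, m * g * m⁻¹ ∈ U := by
      rintro m hm g ⟨hg1, hg2⟩
      obtain ⟨a, ha⟩ := hline m hm
      obtain ⟨a', ha'⟩ := hline _ (Subgroup.inv_mem _ hm)
      refine ⟨?_, fun y hy => ?_⟩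
      · rw [← hcomp, ← hcomp, ha', map_smul, hg1, ← ha', hcomp, mul_inv_cancel, map_one]; rfl
      · obtain ⟨b, hb⟩ := hg2 _ (hperp _ (Subgroup.inv_mem _ hm) y hy)
        exact ⟨b * a, by
          rw [← hcomp, ← hcomp, hb, map_add, hcomp, mul_inv_cancel, map_one, map_smul, ha, smul_smul]; rfl⟩
    rw [Subgroup.mem_normalizer_iff]
    intro g
    refine ⟨key n hn g, fun hg => ?_⟩
    have := key _ (Subgroup.inv_mem _ hn) _ hg
    simpa [mul_assoc] using this
  · intro g hg ⟨k, hk⟩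
    obtain ⟨a, ha⟩ := hline g hg
    have hv1 : ρ g v = v := by rw [ha, eig_one ρ hk hv0 ha, one_smul]
    refine ⟨hv1, fun y hy => ?_⟩
    obtain ⟨w, hw, hwv⟩ : ∃ w, B v w = 0 ∧ w ∉ Submodule.span F {v} := by
      by_contra h
      push Not at h
      have hle : LinearMap.ker (B v) ≤ Submodule.span F {v} := fun w hw => h w hw
      have := Submodule.finrank_mono hle
      rw [hP, finrank_span_singleton hv0] at this
      omega
    obtain ⟨s, t, hst⟩ := plane w hw hwv (ρ g w) (hperp g hg w hw)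
    have hj : ∀ j : ℕ, ∃ c : F, ρ (g ^ j) w = c • v + t ^ j • w := by
      intro j
      induction j with
      | zero => exact ⟨0, by simp⟩
      | succ j ih =>
        obtain ⟨c, hc⟩ := ih
        refine ⟨c + t ^ j * s, ?_⟩
        rw [pow_succ', ← hcomp, hc, map_add, map_smul, map_smul, hv1, hst, smul_add, smul_smul, smul_smul,
          add_smul, pow_succ, add_assoc]
    obtain ⟨c, hc⟩ := hj (p ^ k)
    rw [hk, map_one, Module.End.one_apply] at hc
    have ht : t ^ p ^ k = 1 := by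
      by_contra hne'
      refine hwv (Submodule.mem_span_singleton.mpr ⟨(1 - t ^ p ^ k)⁻¹ * c, ?_⟩)
      have hd : (1 - t ^ p ^ k) • w = c • v := by rw [sub_smul, one_smul]; exact sub_eq_iff_eq_add.mpr hc
      rw [← smul_smul, ← hd, inv_smul_smul₀ (sub_ne_zero.mpr (Ne.symm hne'))]
    have ht1 : t = 1 := by
      have h5 : (t - 1) ^ p ^ k = 0 := by rw [sub_pow_char_pow, ht, one_pow, sub_self]
      exact sub_eq_zero.mp (eq_zero_of_pow_eq_zero h5)
    obtain ⟨α, β, hy'⟩ := plane w hw hwv y hy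
    refine ⟨β * s, ?_⟩
    rw [hy', map_add, map_smul, map_smul, hv1, hst, ht1, one_smul, smul_add, smul_smul]
    abel

theorem su3_pclosed {q : ℕ} (hF : Fintype.card F = q ^ 2) (W : Subgroup (Cfsg.SU 3 F q))
    (hW : IsPGroup p W) (hne : W ≠ ⊥) : ∃ U : Subgroup (Cfsg.SU 3 F q), IsPGroup p U ∧
      Subgroup.normalizer (W : Set (Cfsg.SU 3 F q)) ≤ Subgroup.normalizer (U : Set (Cfsg.SU 3 F q)) ∧
      ∀ g ∈ Subgroup.normalizer (W : Set (Cfsg.SU 3 F q)), (∃ k, g ^ p ^ k = 1) → g ∈ U := by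
  obtain ⟨σ, B, -, hσ, -, -, hnd, hB⟩ := CfsgLib.IsotropicCount.herm_sesq hF 3
  let ρ : Cfsg.SU 3 F q →* Module.End F V :=
    (Matrix.toLinAlgEquiv' : Matrix (Fin 3) (Fin 3) F ≃ₐ[F] Module.End F V).toMonoidHom.comp
      ((Cfsg.slToMat 3 F).comp (Cfsg.SU 3 F q).subtype)
  have hρa : ∀ (g : Cfsg.SU 3 F q) (x : V), ρ g x = (g.1.1) *ᵥ x := fun g x => by
    simp [ρ, Cfsg.slToMat]
  refine pclosed_of_form ρ ?_ hσ B hnd.1 ?_ W hW hne
  · intro a b h
    refine Subtype.ext (Subtype.ext ?_)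
    exact (Matrix.toLinAlgEquiv' : Matrix (Fin 3) (Fin 3) F ≃ₐ[F] Module.End F V).injective h
  · intro g x y
    rw [hB, hB, hρa, hρa]
    exact g.2 y x

end CfsgLib.QdPClosed
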